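import Cfsg.Agent.Lib.Chevalley.OddInvolution.Data.E8E7A1Table

/-!
The checks on the root system E7A1 in E8.
-/

set_option autoImplicit false
set_option maxRecDepth 20000
set_option Elab.async false

namespace CfsgLib.Chevalley.OddInvolution.Data.E8E7A1

open CfsgLib.Chevalley

theorem chkRoots : tbl.chkRoots = true := by decide +kernel
theorem chkPairs : tbl.chkPairs = true := by decide +kernel

theorem jacs0 : allLt (fun s => allLt (fun x => tbl.chkJac (tbl.simple 0) s x) (s + 1)) tbl.n = true := by
  decide +kernel

theorem jacs1 : allLt (fun s => allLt (fun x => tbl.chkJac (tbl.simple 1) s x) (s + 1)) tbl.n = true := by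
  decide +kernel

theorem jacs2 : allLt (fun s => allLt (fun x => tbl.chkJac (tbl.simple 2) s x) (s + 1)) tbl.n = true := by
  decide +kernel

theorem jacs3 : allLt (fun s => allLt (fun x => tbl.chkJac (tbl.simple 3) s x) (s + 1)) tbl.n = true := by
  decide +kernel

theorem jacs4 : allLt (fun s => allLt (fun x => tbl.chkJac (tbl.simple 4) s x) (s + 1)) tbl.n = true := by
  decide +kernel

theorem jacs5 : allLt (fun s => allLt (fun x => tbl.chkJac (tbl.simple 5) s x) (s + 1)) tbl.n = true := by
  decide +kernel

theorem jacs6 : allLt (fun s => allLt (fun x => tbl.chkJac (tbl.simple 6) s x) (s + 1)) tbl.n = true := by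
  decide +kernel

theorem jacs7 : allLt (fun s => allLt (fun x => tbl.chkJac (tbl.simple 7) s x) (s + 1)) tbl.n = true := by
  decide +kernel

theorem chkJacs : tbl.chkJacs = true := by
  refine allLt_iff.mpr fun i hi => ?_
  change i < 8 at hi
  interval_cases i
  · exact jacs0
  · exact jacs1
  · exact jacs2
  · exact jacs3
  · exact jacs4
  · exact jacs5
  · exact jacs6
  · exact jacs7

theorem chkNs : tbl.chkNs = true := by decide +kernel

theorem valid : tbl.Valid := ⟨chkRoots, chkPairs, chkJacs, chkNs⟩

theorem chk0 : tbl.chkStep 0 reps0 = true := by decide +kernel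

theorem chk1 : tbl.chkStep 1 reps1 = true := by decide +kernel

theorem chk2 : tbl.chkStep 2 reps2 = true := by decide +kernel

theorem chk3 : tbl.chkStep 3 reps3 = true := by decide +kernel

theorem chk4 : tbl.chkStep 4 reps4 = true := by decide +kernel

theorem chk5 : tbl.chkStep 5 reps5 = true := by decide +kernel

theorem chk6 : tbl.chkStep 6 reps6 = true := by decide +kernel

theorem chk7 : tbl.chkStep 7 reps7 = true := by decide +kernel

theorem chkSteps : ∀ j < tbl.rank, tbl.chkStep j (steps.getD j []) = true := by
  intro j hj
  change j < 8 at hj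
  interval_cases j
  · exact chk0
  · exact chk1
  · exact chk2
  · exact chk3
  · exact chk4
  · exact chk5
  · exact chk6
  · exact chk7

theorem poly : chkPoly steps degs = true := by decide +kernel

theorem card_WP : (steps.map fun L => (L.length : ℤ)).prod = 5806080 := by decide +kernel

end CfsgLib.Chevalley.OddInvolution.Data.E8E7A1
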