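import Cfsg.Agent.Lib.Chevalley.OddInvolution.Data.F4B4Table

/-!
The checks on the root system B4 in F4.
-/

set_option autoImplicit false
set_option maxRecDepth 20000
set_option Elab.async false

namespace CfsgLib.Chevalley.OddInvolution.Data.F4B4

open CfsgLib.Chevalley

theorem chkRoots : tbl.chkRoots = true := by decide +kernel
theorem chkPairs : tbl.chkPairs = true := by decide +kernel

theorem jacs0 : allLt (fun s => allLt (fun x => tbl.chkJac (tbl.simple 0) s x) (s + 1)) tbl.n = true := by
  decide +kernel

theorem jacs1 : allLt (fun s => allLt (fun x => tbl.chkJac (tbl.simple 1) s x) (s + 1)) tbl.n = true := by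
  decide +kernel

theorem jacs2 : allLt (fun s => allLt (fun x => tbl.chkJac (tbl.simple 2) s x) (s + 1)) tbl.n = true := by
  decide +kernel

theorem jacs3 : allLt (fun s => allLt (fun x => tbl.chkJac (tbl.simple 3) s x) (s + 1)) tbl.n = true := by
  decide +kernel

theorem chkJacs : tbl.chkJacs = true := by
  refine allLt_iff.mpr fun i hi => ?_
  change i < 4 at hi
  interval_cases i
  · exact jacs0
  · exact jacs1
  · exact jacs2
  · exact jacs3

theorem chkNs : tbl.chkNs = true := by decide +kernel

theorem valid : tbl.Valid := ⟨chkRoots, chkPairs, chkJacs, chkNs⟩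

theorem chk0 : tbl.chkStep 0 reps0 = true := by decide +kernel

theorem chk1 : tbl.chkStep 1 reps1 = true := by decide +kernel

theorem chk2 : tbl.chkStep 2 reps2 = true := by decide +kernel

theorem chk3 : tbl.chkStep 3 reps3 = true := by decide +kernel

theorem chkSteps : ∀ j < tbl.rank, tbl.chkStep j (steps.getD j []) = true := by
  intro j hj
  change j < 4 at hj
  interval_cases j
  · exact chk0
  · exact chk1
  · exact chk2
  · exact chk3

theorem poly : chkPoly steps degs = true := by decide +kernel

theorem card_WP : (steps.map fun L => (L.length : ℤ)).prod = 384 := by decide +kernel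

end CfsgLib.Chevalley.OddInvolution.Data.F4B4
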