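import Cfsg.Agent.Lib.Chevalley.OddInvolution.Toral
import Cfsg.Agent.Lib.Chevalley.Poincare

/-!
The root system of the centraliser of a diagonal involution: type C3A1 in F4.
-/

set_option autoImplicit false
set_option maxRecDepth 20000
set_option Elab.async false

namespace CfsgLib.Chevalley.OddInvolution.Data.F4C3A1

open CfsgLib.Chevalley

def row (r : Nat) : Nat :=
  bif Nat.ble 10 r then
   bif Nat.ble 15 r then
    bif Nat.ble 17 r then
     bif Nat.ble 18 r then
      bif Nat.ble 19 r then
       0x1370000001170000f90000c9000
      else
       0x1460000001260001171070f90e90c9000099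
     else
      0x1370000000000001070000e9000000099000
    else
     bif Nat.ble 16 r then
      0x1461370000000000001070f70000da0c9000000079069
     else
      0x1371260001170000000000e70da000000099079069000
   else
    bif Nat.ble 12 r then
     bif Nat.ble 13 r then
      bif Nat.ble 14 r then
       0x14a1390000001170000000000e70000c900000008a000057047
      else
       0x13912a0000001070f700000000000000009908a000057047000
     else
      0x119109000000000000000000000000077067000000000
    else
     bif Nat.ble 11 r then
      0x14a1390001190000f9000000000000000000000077000057000036027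
     else
      0
  else
   bif Nat.ble 5 r then
    bif Nat.ble 7 r then
     bif Nat.ble 8 r then
      bif Nat.ble 9 r then
       0
      else
       0x13912a0001090000e9000000000000000000000067000047000027016000
     else
      0xf90e9000000000000000000000000057047000000000000000
    else
     bif Nat.ble 6 r then
      0x1191090000d60c7000000000000000069059000000036027000000000
     else
      0x1191090000d6000000097000079000000000049000000027016000000000
   else
    bif Nat.ble 2 r then
     bif Nat.ble 3 r then
      bif Nat.ble 4 r then
       0xf70e70c700000008607900000000004900003a029000000000000000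
      else
       0xf70e700000009708600006905900000000000002901a000000000000000
     else
      0xc7000000077000059000000000000029000000000000000000000000
    else
     bif Nat.ble 1 r then
      0xc700009707706705904900003a00000001a000000000000000000000000
     else
      0x97000067000049000000029000000000000000000000000000000000

def coRow (r : Nat) : Nat :=
  bif Nat.ble 10 r then
   bif Nat.ble 15 r then
    bif Nat.ble 17 r then
     bif Nat.ble 18 r then
      bif Nat.ble 19 r then
       0x82828180
      else
       0x81828180
     else
      0x80828180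
    else
     bif Nat.ble 16 r then
      0x81818180
     else
      0x80818180
   else
    bif Nat.ble 12 r then
     bif Nat.ble 13 r then
      bif Nat.ble 14 r then
       0x81818080
      else
       0x80818080
     else
      0x80808180
    else
     bif Nat.ble 11 r then
      0x81808080
     else
      0x80808081
  else
   bif Nat.ble 5 r then
    bif Nat.ble 7 r then
     bif Nat.ble 8 r then
      bif Nat.ble 9 r then
       0x8080807f
      else
       0x7f808080
     else
      0x80807f80
    else
     bif Nat.ble 6 r then
      0x807f8080
     else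
      0x7f7f8080
   else
    bif Nat.ble 2 r then
     bif Nat.ble 3 r then
      bif Nat.ble 4 r then
       0x807f7f80
      else
       0x7f7f7f80
     else
      0x807e7f80
    else
     bif Nat.ble 1 r then
      0x7f7e7f80
     else
      0x7e7e7f80

def cvRow (r : Nat) : Nat :=
  bif Nat.ble 10 r then
   bif Nat.ble 15 r then
    bif Nat.ble 17 r then
     bif Nat.ble 18 r then
      bif Nat.ble 19 r then
       0x81818180
      else
       0x81828280
     else
      0x80818180
    else
     bif Nat.ble 16 r then
      0x81818280
     else
      0x80818280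
   else
    bif Nat.ble 12 r then
     bif Nat.ble 13 r then
      bif Nat.ble 14 r then
       0x81818080
      else
       0x80818080
     else
      0x80808180
    else
     bif Nat.ble 11 r then
      0x81808080
     else
      0x80808081
  else
   bif Nat.ble 5 r then
    bif Nat.ble 7 r then
     bif Nat.ble 8 r then
      bif Nat.ble 9 r then
       0x8080807f
      else
       0x7f808080
     else
      0x80807f80
    else
     bif Nat.ble 6 r then
      0x807f8080
     else
      0x7f7f8080
   else
    bif Nat.ble 2 r then
     bif Nat.ble 3 r then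
      bif Nat.ble 4 r then
       0x807f7e80
      else
       0x7f7f7e80
     else
      0x807f7f80
    else
     bif Nat.ble 1 r then
      0x7f7e7e80
     else
      0x7f7f7f80

def caRow (r : Nat) : Nat :=
  bif Nat.ble 10 r then
   bif Nat.ble 15 r then
    bif Nat.ble 17 r then
     bif Nat.ble 18 r then
      bif Nat.ble 19 r then
       0x82808080
      else
       0x80818080
     else
      0x7e828080
    else
     bif Nat.ble 16 r then
      0x817f8180
     else
      0x7f808180
   else
    bif Nat.ble 12 r then
     bif Nat.ble 13 r then
      bif Nat.ble 14 r then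
       0x81817f80
      else
       0x7f827f80
     else
      0x807e8280
    else
     bif Nat.ble 11 r then
      0x827f8080
     else
      0x80808082
  else
   bif Nat.ble 5 r then
    bif Nat.ble 7 r then
     bif Nat.ble 8 r then
      bif Nat.ble 9 r then
       0x8080807e
      else
       0x7e818080
     else
      0x80827e80
    else
     bif Nat.ble 6 r then
      0x817e8180
     else
      0x7f7f8180
   else
    bif Nat.ble 2 r then
     bif Nat.ble 3 r then
      bif Nat.ble 4 r then
       0x81807f80
      else
       0x7f817f80
     else
      0x827e8080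
    else
     bif Nat.ble 1 r then
      0x807f8080
     else
      0x7e808080

def simple (r : Nat) : Nat :=
  bif Nat.ble 2 r then
   bif Nat.ble 3 r then
    0xb
   else
    0xd
  else
   bif Nat.ble 1 r then
    0xc
   else
    0xa

def tbl : Tbl where
  rank := 4
  half := 10
  row := row
  coRow := coRow
  cvRow := cvRow
  caRow := caRow
  simple := simple

def cls : Sub where
  S := tbl
  mask := 4
  iota := [2, 3, 4, 7, 8, 13, 14, 15, 20, 23, 24, 27, 32, 33, 34, 39, 40, 43, 44, 45]
  words := [[3],
    [2, 1, 2, 3, 2, 1, 2],
    [0],
    [1]]
  D := 2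
  span := [[0, 0, 2, 0],
    [0, 0, 0, 2],
    [-1, 1, 0, -2],
    [2, 0, 0, 0]]
  chain := [(14, 2), (15, 1), (10, 3), (13, 0), (5, 2), (11, 3), (7, 2), (9, 3), (6, 1), (12, 2), (8, 3)]

/-- Representatives at step 0. -/
def reps0 : List Rep :=
  [ ⟨0xb0d0c0a, 0, 0, 0, 0, [1]⟩,
    ⟨0xb0d0c09, 1, 0, 0, 10, [0]⟩ ]

/-- Representatives at step 1. -/
def reps1 : List Rep :=
  [ ⟨0xb0d0c0a, 0, 0, 0, 0, [2, 1]⟩,
    ⟨0xb0f070a, 1, 0, 1, 12, [2, 0]⟩ ]

/-- Representatives at step 2. -/
def reps2 : List Rep :=
  [ ⟨0xb0d0c0a, 0, 0, 0, 0, [4, 5, 1]⟩,
    ⟨0xe06110a, 1, 0, 2, 13, [4, 2, 0]⟩,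
    ⟨0x1004110a, 2, 1, 1, 17, [4, 1, 3]⟩,
    ⟨0x12040c0a, 3, 2, 2, 15, [4, 5, 2]⟩ ]

/-- Representatives at step 3. -/
def reps3 : List Rep :=
  [ ⟨0xb0d0c0a, 0, 0, 0, 0, [6, 7, 8, 1]⟩,
    ⟨0x80e0c0a, 1, 0, 3, 11, [6, 7, 2, 0]⟩,
    ⟨0x50b110a, 2, 1, 2, 14, [6, 3, 1, 8]⟩,
    ⟨0x30b110a, 3, 2, 1, 19, [6, 2, 4, 8]⟩,
    ⟨0x10e0c0a, 4, 3, 2, 16, [6, 7, 3, 5]⟩,
    ⟨0x10d0c0a, 5, 4, 3, 18, [6, 7, 8, 4]⟩ ]

def steps : List (List Rep) := [reps0, reps1, reps2, reps3]

def degs : List ℕ := [2, 4, 6, 2]

end CfsgLib.Chevalley.OddInvolution.Data.F4C3A1
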